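import Cfsg.Agent.H144.TC.Boxes
import Cfsg.Agent.LieClassical.OrthFinite

/-!
# S2464, `PSp_8(q)`: good pairs

`good_pair` : if `g` has the corner `1` (dimension `2 d`, `d ≥ 4`, odd characteristic), then some pair `P`, `Q` has
`p ∈ P`, `q ∈ Q` with `B p q ≠ 0`, `B (g p) p = 0`, `B (g q) q = 0`.
-/

set_option autoImplicit false

namespace Cfsg.Agent.H930.SpE

open Cfsg.Agent.H144 Cfsg.Agent.H144.War Cfsg.Agent.H144.TC

variable {F V : Type*} [Field F] [AddCommGroup V] [Module F V]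

theorem sym_of_skew {B : LinearMap.BilinForm F V} (hB : Alt B) {Q : Submodule F V} {n : Module.End F V}
    (hn : n ∈ Skew B Q) (x y : V) : B (n x) y = B (n y) x := by
  have h1 := hn.2.2 x y
  have h2 := hB.neg x (n y)
  linear_combination h1 - h2

/-- if the form `B (n v) v` does not determine the functional `B · q₀`, its isotropic vectors are in its radical -/
theorem rad_of {B : LinearMap.BilinForm F V} (h2 : (2 : F) ≠ 0) (hB : Alt B) {P Q : Submodule F V} {n : Module.End F V}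
    (hn : n ∈ Skew B Q) {q₀ p₁ : V} (hp₁ : p₁ ∈ P) (h1 : B p₁ q₀ ≠ 0)
    (h : ∀ p ∈ P, B (n p) p = 0 → B p q₀ = 0) {p : V} (hp : p ∈ P) (hpp : B (n p) p = 0) {w : V} (hw : w ∈ P) :
    B (n p) w = 0 := by
  by_contra hw0
  have key : ∀ v ∈ P, B (n p) v ≠ 0 → B v q₀ = 0 := by
    intro v hv hv0
    have e1 : B (n (v + (-(B (n v) v) / (2 * B (n p) v)) • p)) (v + (-(B (n v) v) / (2 * B (n p) v)) • p) = 0 := by
      have hs := sym_of_skew hB hn v p
      have hd : 2 * B (n p) v ≠ 0 := mul_ne_zero h2 hv0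
      simp only [map_add, map_smul, LinearMap.add_apply, LinearMap.smul_apply, smul_eq_mul, hpp, hs]
      field_simp
      ring
    have e2 := h _ (P.add_mem hv (P.smul_mem _ hp)) e1
    have e3 := h p hp hpp
    rw [map_add, map_smul, LinearMap.add_apply, LinearMap.smul_apply, e3, smul_zero, add_zero] at e2
    exact e2
  apply h1
  by_cases h0 : B (n p) p₁ = 0
  · have e1 := key (p₁ + w) (P.add_mem hp₁ hw) (by rw [map_add, h0, zero_add]; exact hw0)
    have e2 := key w hw hw0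
    rw [map_add, LinearMap.add_apply, e2, add_zero] at e1
    exact e1
  · exact key p₁ hp₁ h0

section FD

variable [FiniteDimensional F V]

/-- `dim K + dim L ≤ dim P` for `K ≤ P`, `L ≤ Q`, `K ⊥ L` -/
theorem finrank_add_le {B : LinearMap.BilinForm F V} (hB : Alt B) (hN : Nond B) {P Q K L : Submodule F V}
    (hQ : Orth B Q Q) (hPQ : P ⊔ Q = ⊤) (hK : K ≤ P) (hL : L ≤ Q) (hKL : Orth B K L) :
    Module.finrank F K + Module.finrank F L ≤ Module.finrank F P := by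
  let e : L →ₗ[F] Module.Dual F P := (B.compl₁₂ P.subtype L.subtype).flip
  have he : Function.Injective e := by
    rw [← LinearMap.ker_eq_bot, LinearMap.ker_eq_bot']
    intro q hq
    have : (q : V) = 0 := by
      apply eq_zero_of_orth hN hPQ _ (hQ q (hL q.2))
      intro w hw
      have := LinearMap.congr_fun hq ⟨w, hw⟩
      exact hB.zero this
    exact Subtype.ext this
  have hr : LinearMap.range e ≤ (K.comap P.subtype).dualAnnihilator := by
    rintro _ ⟨l, rfl⟩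
    rw [Submodule.mem_dualAnnihilator]
    intro w hw
    exact hKL _ hw l l.2
  have h1 := LinearMap.finrank_range_of_inj he
  have h2 := Submodule.finrank_mono hr
  have h3 := Subspace.finrank_add_finrank_dualAnnihilator_eq (K.comap P.subtype)
  rw [(Submodule.comapSubtypeEquivOfLe hK).finrank_eq] at h3
  omega

/-- the radical has codimension at most `2` -/
theorem codim_le [Finite F] {B : LinearMap.BilinForm F V} {P : Submodule F V} {n : Module.End F V}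
    (h : ∀ p ∈ P, B (n p) p = 0 → n p = 0) :
    Module.finrank F P ≤ Module.finrank F (P ⊓ LinearMap.ker n : Submodule F V) + 2 := by
  obtain ⟨W, hW⟩ := Submodule.exists_isCompl ((LinearMap.ker n).comap P.subtype)
  have h1 := Submodule.finrank_add_eq_of_isCompl hW
  have h2 : Module.finrank F ((LinearMap.ker n).comap P.subtype) =
      Module.finrank F (P ⊓ LinearMap.ker n : Submodule F V) := by
    rw [(Submodule.equivMapOfInjective P.subtype P.injective_subtype _).finrank_eq, Submodule.map_comap_subtype]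
  by_contra hlt
  have h3 : 3 ≤ Module.finrank F W := by omega
  obtain ⟨w, hw, hw0, hwQ⟩ := LieClassical.OrthFinite.exists_sing_mem
    (Q := LinearMap.BilinMap.toQuadraticMap ((B.compl₁₂ n LinearMap.id).compl₁₂ P.subtype P.subtype)) W h3
  have h4 : n (w : V) = 0 := h w w.2 hwQ
  have h5 : w ∈ (LinearMap.ker n).comap P.subtype ⊓ W := ⟨h4, hw⟩
  rw [hW.inf_eq_bot] at h5
  exact hw0 h5

/-- no good pair for `(P, Q)` -/
theorem no_good [Finite F] {B : LinearMap.BilinForm F V} (h2 : (2 : F) ≠ 0) (hB : Alt B) (hN : Nond B) {g : V ≃ₗ[F] V}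
    (hg : Iso B g) {P Q : Submodule F V} (hP : Orth B P P) (hQ : Orth B Q Q) (hPQ : P ⊔ Q = ⊤)
    (hc : ∀ v ∈ P, g v - v ∈ Q) (hd : 4 ≤ Module.finrank F P)
    (hno : ∀ p ∈ P, ∀ q ∈ Q, B (g p) p = 0 → B (g q) q = 0 → B p q = 0) :
    Module.finrank F (P ⊓ LinearMap.ker ((g : V →ₗ[F] V) - (LinearMap.id : V →ₗ[F] V)) : Submodule F V) = 2 ∧
    ∃ f ∈ Q, g f - f ∈ P ∧ g (g f - f) = g f - f ∧ B (g f) f ≠ 0 := by
  obtain ⟨n, m, hn, hm, hnm⟩ := c1_factor hB hN hP hQ hPQ hg hc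
  have hgv : ∀ v, g v = v + m v + n (v + m v) := by
    intro v
    rw [hnm, LinearEquiv.mul_apply, uni_apply, uni_apply]
  have hgP : ∀ p ∈ P, g p = p + n p := by
    intro p hp
    rw [hgv, hm.2.1 p hp, add_zero]
  have hgQ : ∀ q ∈ Q, g q = q + m q + n (m q) := by
    intro q hq
    rw [hgv, map_add, hn.2.1 q hq, zero_add]
  have hTP : ∀ p ∈ P, B (g p) p = B (n p) p := by
    intro p hp
    rw [hgP p hp, map_add, LinearMap.add_apply, hB, zero_add]
  have hTQ : ∀ q ∈ Q, B (g q) q = B (m q) q := by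
    intro q hq
    rw [hgQ q hq, map_add, map_add, LinearMap.add_apply, LinearMap.add_apply, hB, zero_add, hQ _ (hn.1 _) q hq, add_zero]
  have hQP : Q ⊔ P = ⊤ := by rw [sup_comm]; exact hPQ
  have hdQ : Module.finrank F P = Module.finrank F Q := finrank_eq hB hN hP hQ hPQ
  -- nonzero isotropic vectors
  obtain ⟨p₀, hp₀, hp₀0, hp₀T⟩ := LieClassical.OrthFinite.exists_sing_mem
    (Q := LinearMap.BilinMap.toQuadraticMap (B.compl₁₂ n LinearMap.id)) P (by omega)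
  obtain ⟨q₀, hq₀, hq₀0, hq₀T⟩ := LieClassical.OrthFinite.exists_sing_mem
    (Q := LinearMap.BilinMap.toQuadraticMap (B.compl₁₂ m LinearMap.id)) Q (by omega)
  have hp₀T : B (n p₀) p₀ = 0 := hp₀T
  have hq₀T : B (m q₀) q₀ = 0 := hq₀T
  obtain ⟨p₁, hp₁, hp₁0⟩ : ∃ p₁ ∈ P, B p₁ q₀ ≠ 0 := by
    by_contra hcon
    push Not at hcon
    exact hq₀0 (eq_zero_of_orth hN hPQ (fun w hw => hB.zero (hcon w hw)) (hQ q₀ hq₀))
  obtain ⟨q₁, hq₁, hq₁0⟩ : ∃ q₁ ∈ Q, B q₁ p₀ ≠ 0 := by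
    by_contra hcon
    push Not at hcon
    exact hp₀0 (eq_zero_of_orth hN hPQ (hP p₀ hp₀) (fun w hw => hB.zero (hcon w hw)))
  have radP : ∀ p ∈ P, B (n p) p = 0 → n p = 0 := by
    intro p hp hpp
    apply eq_zero_of_orth hN hPQ _ (hQ _ (hn.1 p))
    intro w hw
    exact rad_of h2 hB hn hp₁ hp₁0 (fun p hp h => hno p hp q₀ hq₀ ((hTP p hp).trans h) ((hTQ q₀ hq₀).trans hq₀T))
      hp hpp hw
  have radQ : ∀ q ∈ Q, B (m q) q = 0 → m q = 0 := by
    intro q hq hqq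
    apply eq_zero_of_orth hN hPQ (hP _ (hm.1 q))
    intro w hw
    exact rad_of h2 hB hm hq₁ hq₁0 (fun q hq h => hB.zero (hno p₀ hp₀ q hq ((hTP p₀ hp₀).trans hp₀T)
      ((hTQ q hq).trans h))) hq hqq hw
  have cP := codim_le radP
  have cQ := codim_le radQ
  have hKL : Orth B (P ⊓ LinearMap.ker n) (Q ⊓ LinearMap.ker m) := by
    rintro p ⟨hp, hp0⟩ q ⟨hq, hq0⟩
    rw [SetLike.mem_coe, LinearMap.mem_ker] at hp0 hq0
    apply hno p hp q hq
    · rw [hTP p hp, hp0, map_zero, LinearMap.zero_apply]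
    · rw [hTQ q hq, hq0, map_zero, LinearMap.zero_apply]
  have hle := finrank_add_le hB hN hQ hPQ inf_le_left inf_le_left hKL
  have hKeq : (P ⊓ LinearMap.ker ((g : V →ₗ[F] V) - (LinearMap.id : V →ₗ[F] V)) : Submodule F V) = P ⊓ LinearMap.ker n := by
    ext v
    simp only [Submodule.mem_inf, LinearMap.mem_ker]
    refine and_congr_right fun hv => ?_
    have h6 : ((g : V →ₗ[F] V) - (LinearMap.id : V →ₗ[F] V)) v = n v := by
      change g v - v = n v
      rw [hgP v hv, add_sub_cancel_left]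
    rw [h6]
  refine ⟨by rw [hKeq]; omega, ?_⟩
  -- `im m ≤ ker n`
  have him : ∀ v, n (m v) = 0 := by
    intro v
    obtain ⟨K', hK'1, hK'2, hK'3⟩ : ∃ K' : Submodule F V, K' ≤ P ∧ (Orth B K' (Q ⊓ LinearMap.ker m)) ∧
        ∀ x ∈ P, (∀ l ∈ Q ⊓ LinearMap.ker m, B x l = 0) → x ∈ K' :=
      ⟨P ⊓
      { carrier := {x | ∀ l ∈ Q ⊓ LinearMap.ker m, B x l = 0}
        zero_mem' := fun l _ => by simp
        add_mem' := fun {a b} ha hb l hl => by rw [map_add, LinearMap.add_apply, ha l hl, hb l hl, add_zero]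
        smul_mem' := fun c a ha l hl => by rw [map_smul, LinearMap.smul_apply, ha l hl, smul_zero] },
        inf_le_left, fun x hx y hy => hx.2 y hy, fun x hx h => ⟨hx, h⟩⟩
    have h3 := finrank_add_le hB hN hQ hPQ hK'1 inf_le_left hK'2
    have h4 : P ⊓ LinearMap.ker n ≤ K' := fun x hx => hK'3 x hx.1 fun l hl => hKL x hx l hl
    have h5 : P ⊓ LinearMap.ker n = K' := Submodule.eq_of_le_of_finrank_le h4 (by omega)
    have h6 : m v ∈ K' := by
      refine hK'3 _ (hm.1 v) fun l hl => ?_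
      rw [sym_of_skew hB hm, (hl.2 : m l = 0), map_zero, LinearMap.zero_apply]
    rw [← h5] at h6
    exact h6.2
  obtain ⟨f, hf, hf0⟩ : ∃ f ∈ Q, m f ≠ 0 := by
    by_contra hcon
    push Not at hcon
    have : Q ⊓ LinearMap.ker m = Q := inf_eq_left.2 fun q hq => hcon q hq
    rw [this] at hle
    omega
  have hgf : g f - f = m f := by
    rw [hgQ f hf, him, add_zero, add_sub_cancel_left]
  refine ⟨f, hf, by rw [hgf]; exact hm.1 f, ?_, ?_⟩
  · rw [hgf, hgP _ (hm.1 f), him, add_zero]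
  · rw [hTQ f hf]
    exact fun h => hf0 (radQ f hf h)

/-- **box GP** -/
theorem good_pair [Finite F] {B : LinearMap.BilinForm F V} (h2 : (2 : F) ≠ 0) (hB : Alt B) (hN : Nond B)
    {g : V ≃ₗ[F] V} (hg : Iso B g) {d : ℕ} (hd : 4 ≤ d) (hV : Module.finrank F V = 2 * d) (hc : C1On B g ⊤) :
    GP B g ⊤ := by
  obtain ⟨P, Q, hP, hQ, hPQ, hc⟩ := hc
  by_contra hcon
  have hno : ∀ P Q : Submodule F V, Orth B P P → Orth B Q Q → P ⊔ Q = ⊤ → (∀ v ∈ P, g v - v ∈ Q) →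
      ∀ p ∈ P, ∀ q ∈ Q, B (g p) p = 0 → B (g q) q = 0 → B p q = 0 := by
    intro P Q hP hQ hPQ hc p hp q hq h1 h2
    by_contra h0
    exact hcon ⟨P, Q, ⟨hP, hQ, hPQ, hc⟩, p, hp, q, hq, h0, h1, h2⟩
  have hdim : ∀ P Q : Submodule F V, Orth B P P → Orth B Q Q → P ⊔ Q = ⊤ → 4 ≤ Module.finrank F P := by
    intro P Q hP hQ hPQ
    have := finrank_two hB hN hP hQ hPQ
    omega
  obtain ⟨hk, f, hf, hfP, hff, hf0⟩ := no_good h2 hB hN hg hP hQ hPQ hc (hdim P Q hP hQ hPQ) (hno P Q hP hQ hPQ hc)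
  obtain ⟨p₀, hp₀⟩ : ∃ p₀, p₀ = g f - f := ⟨_, rfl⟩
  rw [← hp₀] at hfP hff
  have hgf : g f = f + p₀ := by rw [hp₀]; abel
  have hpf : B p₀ f ≠ 0 := by
    rw [hgf, map_add, LinearMap.add_apply, hB, zero_add] at hf0
    exact hf0
  have hfp : B f p₀ ≠ 0 := fun h => hpf (hB.zero h)
  have hp₀0 : p₀ ≠ 0 := by
    rintro h
    rw [h, map_zero, LinearMap.zero_apply] at hpf
    exact hpf rfl
  -- the new pair
  have mP : ∀ {x}, x ∈ (P ⊓ LinearMap.ker (B f)) ⊔ Submodule.span F {f} ↔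
      ∃ v ∈ P, B f v = 0 ∧ ∃ c : F, v + c • f = x := by
    intro x
    rw [Submodule.mem_sup]
    constructor
    · rintro ⟨v, hv, w, hw, rfl⟩
      obtain ⟨c, rfl⟩ := Submodule.mem_span_singleton.1 hw
      exact ⟨v, hv.1, hv.2, c, rfl⟩
    · rintro ⟨v, hv, hv0, c, rfl⟩
      exact ⟨v, ⟨hv, hv0⟩, _, Submodule.smul_mem _ c (Submodule.mem_span_singleton_self f), rfl⟩
  have mQ : ∀ {x}, x ∈ (Q ⊓ LinearMap.ker (B p₀)) ⊔ Submodule.span F {p₀} ↔
      ∃ v ∈ Q, B p₀ v = 0 ∧ ∃ c : F, v + c • p₀ = x := by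
    intro x
    rw [Submodule.mem_sup]
    constructor
    · rintro ⟨v, hv, w, hw, rfl⟩
      obtain ⟨c, rfl⟩ := Submodule.mem_span_singleton.1 hw
      exact ⟨v, hv.1, hv.2, c, rfl⟩
    · rintro ⟨v, hv, hv0, c, rfl⟩
      exact ⟨v, ⟨hv, hv0⟩, _, Submodule.smul_mem _ c (Submodule.mem_span_singleton_self p₀), rfl⟩
  have oP : Orth B ((P ⊓ LinearMap.ker (B f)) ⊔ Submodule.span F {f}) ((P ⊓ LinearMap.ker (B f)) ⊔ Submodule.span F {f}) := by
    intro x hx y hy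
    obtain ⟨v, hv, hv0, c, rfl⟩ := mP.1 hx
    obtain ⟨w, hw, hw0, e, rfl⟩ := mP.1 hy
    simp only [map_add, map_smul, LinearMap.add_apply, LinearMap.smul_apply, smul_eq_mul, hP v hv w hw, hw0,
      hB.zero hv0, hB f]
    ring
  have oQ : Orth B ((Q ⊓ LinearMap.ker (B p₀)) ⊔ Submodule.span F {p₀})
      ((Q ⊓ LinearMap.ker (B p₀)) ⊔ Submodule.span F {p₀}) := by
    intro x hx y hy
    obtain ⟨v, hv, hv0, c, rfl⟩ := mQ.1 hx
    obtain ⟨w, hw, hw0, e, rfl⟩ := mQ.1 hy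
    simp only [map_add, map_smul, LinearMap.add_apply, LinearMap.smul_apply, smul_eq_mul, hQ v hv w hw, hw0,
      hB.zero hv0, hB p₀]
    ring
  have sup : (P ⊓ LinearMap.ker (B f)) ⊔ Submodule.span F {f} ⊔ ((Q ⊓ LinearMap.ker (B p₀)) ⊔ Submodule.span F {p₀}) = ⊤ := by
    rw [eq_top_iff]
    intro x _
    obtain ⟨p, hp, q, hq, rfl⟩ := mem_sup_top hPQ x
    rw [Submodule.mem_sup]
    refine ⟨(p - (B f p / B f p₀) • p₀) + (B p₀ q / B p₀ f) • f, mP.2 ⟨_, P.sub_mem hp (P.smul_mem _ hfP), ?_, _, rfl⟩,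
      (q - (B p₀ q / B p₀ f) • f) + (B f p / B f p₀) • p₀, mQ.2 ⟨_, Q.sub_mem hq (Q.smul_mem _ hf), ?_, _, rfl⟩, ?_⟩
    · rw [map_sub, map_smul, smul_eq_mul, div_mul_cancel₀ _ hfp, sub_self]
    · rw [map_sub, map_smul, smul_eq_mul, div_mul_cancel₀ _ hpf, sub_self]
    · abel
  have cc : ∀ v ∈ (P ⊓ LinearMap.ker (B f)) ⊔ Submodule.span F {f},
      g v - v ∈ (Q ⊓ LinearMap.ker (B p₀)) ⊔ Submodule.span F {p₀} := by
    intro x hx
    obtain ⟨v, hv, hv0, c, rfl⟩ := mP.1 hx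
    refine mQ.2 ⟨g v - v, hc v hv, ?_, c, ?_⟩
    · -- `B p₀ (g v) = B (g p₀) (g v)`
      have h1 := hg p₀ v
      rw [hff] at h1
      rw [map_sub, h1, sub_self]
    · rw [map_add, map_smul, hgf, smul_add]
      abel
  obtain ⟨hk', -⟩ := no_good h2 hB hN hg oP oQ sup cc (hdim _ _ oP oQ sup) (hno _ _ oP oQ sup cc)
  have hlt : (((P ⊓ LinearMap.ker (B f)) ⊔ Submodule.span F {f}) ⊓
      LinearMap.ker ((g : V →ₗ[F] V) - (LinearMap.id : V →ₗ[F] V)) : Submodule F V) <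
      P ⊓ LinearMap.ker ((g : V →ₗ[F] V) - (LinearMap.id : V →ₗ[F] V)) := by
    rw [SetLike.lt_iff_le_and_exists]
    have hx' : ∀ x ∈ (((P ⊓ LinearMap.ker (B f)) ⊔ Submodule.span F {f}) ⊓
      LinearMap.ker ((g : V →ₗ[F] V) - (LinearMap.id : V →ₗ[F] V)) : Submodule F V), x ∈ P ∧ g x = x ∧ B f x = 0 := by
      rintro x ⟨hx, hx0⟩
      obtain ⟨v, hv, hv0, c, rfl⟩ := mP.1 hx
      have h1 : g (v + c • f) = v + c • f := sub_eq_zero.1 hx0
      rw [map_add, map_smul, hgf, smul_add] at h1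
      have h3 : (g v - v) + c • p₀ = 0 := by
        have h1' := sub_eq_zero.2 h1
        rw [← h1']
        abel
      have h4 : c • p₀ ∈ Q := by
        rw [← neg_eq_iff_add_eq_zero.2 h3]
        exact Q.neg_mem (hc v hv)
      have h5 : c • p₀ = 0 :=
        (Submodule.disjoint_def.1 (isCompl_of hN hP hQ hPQ).1) _ (P.smul_mem c hfP) h4
      have h6 : c = 0 := (smul_eq_zero.1 h5).resolve_right hp₀0
      subst h6
      rw [zero_smul, add_zero] at h3 ⊢
      exact ⟨hv, sub_eq_zero.1 h3, hv0⟩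
    refine ⟨fun x hx => ⟨(hx' x hx).1, ?_⟩, p₀, ⟨hfP, ?_⟩, fun h => hfp (hx' p₀ h).2.2⟩
    · exact sub_eq_zero.2 (hx' x hx).2.1
    · exact sub_eq_zero.2 hff
  have := Submodule.finrank_lt_finrank_of_lt hlt
  omega

/-- dimension `8` -/
theorem gp_eight [Finite F] {B : LinearMap.BilinForm F V} (h2 : (2 : F) ≠ 0) (hB : Alt B) (hN : Nond B)
    {g : V ≃ₗ[F] V} (hg : Iso B g) (hV : Module.finrank F V = 8) (hc : C1On B g ⊤) : GP B g ⊤ :=
  good_pair h2 hB hN hg (d := 4) le_rfl (by omega) hc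

end FD

end Cfsg.Agent.H930.SpE
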